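import Cfsg.Agent.Omega8Minus50.Sub.Entry

/-!
Rational totally singular planes degenerately paired with the plane of a root element (helper50).
-/

set_option autoImplicit false
set_option linter.unusedSectionVars false

namespace Cfsg.Agent.Omega8Minus50.Sub

open QuadraticMap Matrix Cfsg.Agent.UnitaryOrthogonal Cfsg.Agent.SubfieldTwo

variable {ι : Type} [Fintype ι] [DecidableEq ι] {F : Type*} [Field F] [Finite F]
variable {Q : QuadraticForm F (ι → F)} {F₀ : Subfield F} {P : GL ι F}
variable {M : Subgroup (orth Q)}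

variable (hR : IsRatForm Q F₀ P)
include hR

/-- A vector on two different rational planes is a multiple of a rational vector. -/
theorem pr_of_planes {u w w' : ι → F}
    (hind : ∀ a b c : F, a • u + b • w + c • w' = 0 → a = 0 ∧ b = 0 ∧ c = 0)
    (h1 : RatPlane F₀ P u w) (h2 : RatPlane F₀ P u w') :
    ∃ (μ : F) (z : ι → F), Rat F₀ P z ∧ u = μ • z := by
  obtain ⟨p, q, hp, hq, ⟨a, b, hu⟩, c, d, hw⟩ := h1
  obtain ⟨p', q', hp', hq', ⟨a', b', hu'⟩, c', d', hw'⟩ := h2
  have hpq : ∀ i, Rat F₀ P (![p, q] i) := by intro i; fin_cases i <;> simpa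
  have key : ∀ p' q' : ι → F, Rat F₀ P p' → Rat F₀ P q' → ∀ a' b' : F, u = a' • p' + b' • q' →
      p' ∉ Submodule.span F (Set.range ![p, q]) → ∃ (μ : F) (z : ι → F), Rat F₀ P z ∧ u = μ • z := by
    intro p' q' hp' hq' a' b' hu' hn
    obtain ⟨z, hz, hzp, hz1⟩ := exists_dual hR ![p, q] hpq hp' hn
    have h0 : polar Q z u = 0 := by
      rw [hu, polar_add_right, polar_smul_right, polar_smul_right, show polar Q z p = 0 from hzp 0,
        show polar Q z q = 0 from hzp 1]
      simp
    rw [hu', polar_add_right, polar_smul_right, polar_smul_right, hz1, smul_eq_mul, mul_one,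
      smul_eq_mul] at h0
    refine ⟨b', q' - polar Q z q' • p', rat_sub hq' (rat_smul (polar_rat hR hz hq') hp'), ?_⟩
    rw [hu', show a' = -(b' * polar Q z q') by linear_combination h0]
    module
  by_cases hp'n : p' ∈ Submodule.span F (Set.range ![p, q])
  swap
  · exact key p' q' hp' hq' a' b' hu' hp'n
  by_cases hq'n : q' ∈ Submodule.span F (Set.range ![p, q])
  swap
  · exact key q' p' hq' hp' b' a' (by rw [hu', add_comm]) hq'n
  exfalso
  have hmem : ∀ x y : F, x • p + y • q ∈ Submodule.span F (Set.range ![p, q]) := fun x y =>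
    add_mem (Submodule.smul_mem _ _ (Submodule.subset_span ⟨0, rfl⟩))
      (Submodule.smul_mem _ _ (Submodule.subset_span ⟨1, rfl⟩))
  have hw'm : w' ∈ Submodule.span F (Set.range ![p, q]) :=
    hw' ▸ add_mem (Submodule.smul_mem _ _ hp'n) (Submodule.smul_mem _ _ hq'n)
  have hli : LinearIndependent F ![u, w, w'] := by
    rw [Fintype.linearIndependent_iff]
    intro g hg i
    simp [Fin.sum_univ_three] at hg
    obtain ⟨h1, h2, h3⟩ := hind _ _ _ hg
    fin_cases i <;> assumption
  have h3 := finrank_span_eq_card hli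
  have hle : Submodule.span F (Set.range ![u, w, w']) ≤ Submodule.span F (Set.range ![p, q]) := by
    rw [Submodule.span_le]
    rintro _ ⟨i, rfl⟩
    fin_cases i
    · exact hu ▸ hmem a b
    · exact hw ▸ hmem c d
    · exact hw'm
  have h4 := Submodule.finrank_mono hle
  have h5 := finrank_range_le_card (R := F) ![p, q]
  rw [Set.finrank] at h5
  simp at h3 h4 h5
  omega

/-- The pairing determinant of two vectors with the plane. -/
noncomputable def pdet (Q : QuadraticForm F (ι → F)) (u w b c : ι → F) : F :=
  polar Q b u * polar Q c w - polar Q c u * polar Q b w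

variable (hM : RatIn Q F₀ P M)
include hM

/-- A rational totally singular plane degenerately paired with the root plane. -/
theorem good_of_pdet_zero {u w : ι → F} (huQ : Q u = 0) (hwQ : Q w = 0) (huw : polar Q u w = 0)
    (huw' : ∀ s t : F, s • u + t • w = 0 → s = 0 ∧ t = 0) (hk : eich Q u w ∈ M)
    (hN : ∀ b, Rat F₀ P b → Q b = 0 → polar Q b u = 0 → polar Q b w = 0 → b = 0)
    {b c : ι → F} (hb : Rat F₀ P b) (hc : Rat F₀ P c) (hbQ : Q b = 0) (hcQ : Q c = 0)
    (hbc : polar Q b c = 0) (hb0 : b ≠ 0) (hcn : c ∉ Submodule.span F {b})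
    (hD : pdet Q u w b c = 0) : Good Q F₀ P M := by
  have hwu : polar Q w u = 0 := by rw [polar_comm]; exact huw
  obtain ⟨l, hl⟩ : ∃ l, l = polar Q b w • u - polar Q b u • w := ⟨_, rfl⟩
  have hψ : polar Q b u ≠ 0 ∨ polar Q b w ≠ 0 := by
    by_contra h
    rw [not_or, not_not, not_not] at h
    exact hb0 (hN b hb hbQ h.1 h.2)
  have hl0 : l ≠ 0 := fun h => by
    rw [hl, sub_eq_add_neg, ← neg_smul] at h
    obtain ⟨h1, h2⟩ := huw' _ _ h
    exact hψ.elim (fun h' => h' (neg_eq_zero.mp h2)) (fun h' => h' h1)
  have hlQ : Q l = 0 := by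
    rw [hl, sub_eq_add_neg, ← neg_smul, form_add, form_smul, form_smul, huQ, hwQ, polar_smul_left,
      polar_smul_right, huw]
    simp
  have hlu : polar Q l u = 0 := by
    rw [hl, polar_sub_left, polar_smul_left, polar_smul_left, polar_self_eq, huQ, hwu]; simp
  have hlw : polar Q l w = 0 := by
    rw [hl, polar_sub_left, polar_smul_left, polar_smul_left, polar_self_eq, hwQ, huw]; simp
  have hlb : polar Q b l = 0 := by
    rw [hl, polar_sub_right, polar_smul_right, polar_smul_right, smul_eq_mul, smul_eq_mul]; ring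
  -- the main case
  have main : ∀ c, Rat F₀ P c → Q c = 0 → polar Q b c = 0 → c ∉ Submodule.span F {b} →
      polar Q l c = 0 → ∃ β, (∃ μ : F, β = c - μ • b) ∧ polar Q β u = 0 ∧ polar Q β w = 0 ∧
        ((∀ ν : F, β ≠ ν • l) → Good Q F₀ P M) := by
    intro c hc hcQ hbc hcn hlc
    obtain ⟨μ, hμu, hμw⟩ : ∃ μ : F, polar Q c u = μ * polar Q b u ∧
        polar Q c w = μ * polar Q b w := by
      rw [hl, polar_sub_left, polar_smul_left, polar_smul_left, smul_eq_mul, smul_eq_mul,
        polar_comm Q u c, polar_comm Q w c] at hlc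
      rcases hψ with h | h
      · exact ⟨polar Q c u / polar Q b u, by field_simp, by field_simp; linear_combination -hlc⟩
      · exact ⟨polar Q c w / polar Q b w, by field_simp; linear_combination hlc, by field_simp⟩
    obtain ⟨β, hβ⟩ : ∃ β, β = c - μ • b := ⟨_, rfl⟩
    have hβu : polar Q β u = 0 := by
      rw [hβ, polar_sub_left, polar_smul_left, hμu, smul_eq_mul, sub_self]
    have hβw : polar Q β w = 0 := by
      rw [hβ, polar_sub_left, polar_smul_left, hμw, smul_eq_mul, sub_self]
    have hbβ : polar Q b β = 0 := by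
      rw [hβ, polar_sub_right, polar_smul_right, hbc, polar_self_eq, hbQ]; simp
    have hβQ : Q β = 0 := by
      rw [hβ, sub_eq_add_neg, ← neg_smul, form_add, form_smul, hcQ, hbQ, polar_smul_right,
        polar_comm Q c b, hbc]
      simp
    have hlβ : polar Q l β = 0 := by
      rw [hl, polar_sub_left, polar_smul_left, polar_smul_left, polar_comm Q u β, hβu,
        polar_comm Q w β, hβw]
      simp
    refine ⟨β, ⟨μ, hβ⟩, hβu, hβw, fun hind => ?_⟩
    have hβ0 : β ≠ 0 := fun e => hind 0 (by rw [e, zero_smul])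
    have hind2 : ∀ s t : F, s • l + t • β = 0 → s = 0 ∧ t = 0 := by
      intro s t h
      by_cases ht : t = 0
      · rw [ht, zero_smul, add_zero] at h
        exact ⟨(smul_eq_zero.mp h).resolve_right hl0, ht⟩
      · refine absurd ?_ (hind (-(t⁻¹ * s)))
        have := congrArg (fun v => t⁻¹ • v) h
        simp only [smul_add, smul_smul, inv_mul_cancel₀ ht, one_smul, smul_zero] at this
        rw [neg_smul]
        exact eq_neg_of_add_eq_zero_right this
    -- the commutator
    obtain ⟨Y, hYd⟩ : ∃ Y, Y = eich Q b c := ⟨_, rfl⟩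
    have hYM : Y ∈ M := hYd ▸ hM b c hb hc hbQ hbc
    have hYu : Y.1 u = u + polar Q b u • β := by
      rw [hYd, eich_apply hbQ hbc, hμu, hcQ, hβ]; module
    have hYw : Y.1 w = w + polar Q b w • β := by
      rw [hYd, eich_apply hbQ hbc, hμw, hcQ, hβ]; module
    have hconj := mul_mem (mul_mem hYM hk) (inv_mem hYM)
    rw [conj_eich, hYu, hYw] at hconj
    have he : eich Q l β * eich Q u w =
        eich Q (u + polar Q b u • β) (w + polar Q b w • β) := by
      refine orth_ext fun x => ?_
      rw [coe_mul_apply, eich_apply hlQ hlβ, eich_apply huQ huw, eich_apply (by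
          rw [form_add, form_smul, huQ, hβQ, polar_smul_right, polar_comm Q u β, hβu]; simp)
        (by
          rw [polar_add_left, polar_add_right, polar_add_right, polar_smul_left, polar_smul_right,
            polar_smul_left, polar_smul_right, huw, hβw, polar_comm Q u β, hβu, polar_self_eq, hβQ]
          simp), hwQ, hβQ]
      have hQw : Q (w + polar Q b w • β) = 0 := by
        rw [form_add, form_smul, hwQ, hβQ, polar_smul_right, polar_comm Q w β, hβw]; simp
      rw [hQw]
      simp only [polar_add_left, polar_add_right, polar_sub_right, polar_smul_left,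
        polar_smul_right, hlu, hlw, hβu, hβw, smul_eq_mul, zero_mul, zero_smul, sub_zero, mul_zero,
        add_zero, hl, polar_sub_left, polar_self_eq, huQ, hwQ, huw, hwu]
      module
    have hkl : eich Q l β ∈ M := by
      have := mul_mem hconj (inv_mem hk)
      rwa [← he, mul_inv_cancel_right] at this
    refine good_of_plane hR hM hb hbQ hb0 hlQ hβQ hlβ hlb hbβ hkl hind2 ?_
    rintro ⟨p, q, hp, hq, hlpq, hβpq⟩
    have hbspan : ∀ ν κ : F, l ≠ ν • β + κ • b := by
      intro ν κ he'
      have h1 : κ * polar Q b u = 0 := by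
        have := hlu
        rwa [he', polar_add_left, polar_smul_left, polar_smul_left, hβu, smul_zero, zero_add,
          smul_eq_mul] at this
      have h2 : κ * polar Q b w = 0 := by
        have := hlw
        rwa [he', polar_add_left, polar_smul_left, polar_smul_left, hβw, smul_zero, zero_add,
          smul_eq_mul] at this
      have hκ : κ = 0 := hψ.elim (fun h => (mul_eq_zero.mp h1).resolve_right h)
        (fun h => (mul_eq_zero.mp h2).resolve_right h)
      rw [hκ, zero_smul, add_zero] at he'
      have := (hind2 1 (-ν) (by rw [he']; module)).1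
      exact one_ne_zero this
    obtain ⟨κ, z, hz, hβz⟩ := pr_of_planes hR (u := β) (w := l) (w' := b) (fun x y z h => by
        have hy : y = 0 := by
          by_contra hy
          refine hbspan (-(y⁻¹ * x)) (-(y⁻¹ * z)) ?_
          have := congrArg (fun v => y⁻¹ • v) h
          simp only [smul_add, smul_smul, inv_mul_cancel₀ hy, one_smul, smul_zero] at this
          rw [← sub_eq_zero, ← this]
          module
        rw [hy, zero_smul, add_zero, hβ] at h
        have hx : x = 0 := by
          by_contra hx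
          refine hcn (Submodule.mem_span_singleton.mpr ⟨μ - x⁻¹ * z, ?_⟩)
          have := congrArg (fun v => x⁻¹ • v) h
          simp only [smul_add, smul_smul, inv_mul_cancel₀ hx, one_smul, smul_zero] at this
          rw [eq_comm, ← sub_eq_zero, ← this]
          module
        rw [hx, zero_smul, zero_add] at h
        exact ⟨hx, hy, (smul_eq_zero.mp h).resolve_right hb0⟩)
      ⟨p, q, hp, hq, hβpq, hlpq⟩ ⟨b, c, hb, hc, ⟨-μ, 1, by rw [hβ]; module⟩, 1, 0, by simp⟩
    have hκ : κ ≠ 0 := fun e => hβ0 (by rw [hβz, e, zero_smul])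
    have hz0 : z = 0 := by
      refine hN z hz ?_ ?_ ?_
      · have := hβQ
        rw [hβz, form_smul] at this
        exact (mul_eq_zero.mp this).resolve_left (mul_ne_zero hκ hκ)
      · have := hβu
        rw [hβz, polar_smul_left, smul_eq_mul] at this
        exact (mul_eq_zero.mp this).resolve_left hκ
      · have := hβw
        rw [hβz, polar_smul_left, smul_eq_mul] at this
        exact (mul_eq_zero.mp this).resolve_left hκ
    exact hβ0 (by rw [hβz, hz0, smul_zero])
  have hlc : polar Q l c = 0 := by
    rw [hl, polar_sub_left, polar_smul_left, polar_smul_left, polar_comm Q u c, polar_comm Q w c,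
      smul_eq_mul, smul_eq_mul]
    rw [pdet] at hD
    linear_combination -hD
  obtain ⟨β, ⟨μ, hβ⟩, -, -, hfin⟩ := main c hc hcQ hbc hcn hlc
  by_cases hind : ∀ ν : F, β ≠ ν • l
  · exact hfin hind
  -- the planes meet: move to another rational plane through `b`
  simp only [not_forall, not_not] at hind
  obtain ⟨ν, hν⟩ := hind
  have hn := hR.dim
  obtain ⟨c', hc', hc'Q, hc'p, hc'n⟩ := exists_singular_out hR ![b, c]
    (by intro i; fin_cases i <;> simpa) (by omega)
  have hc'b : polar Q c' b = 0 := hc'p 0
  have hc'c : polar Q c' c = 0 := hc'p 1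
  have hν0 : ν ≠ 0 := fun e => hcn (Submodule.mem_span_singleton.mpr ⟨μ, by
    rw [e, zero_smul, hβ, sub_eq_zero] at hν
    exact hν.symm⟩)
  have hlspan : l = ν⁻¹ • (c - μ • b) := by
    rw [← hβ, hν, smul_smul, inv_mul_cancel₀ hν0, one_smul]
  obtain ⟨β', ⟨μ', hβ'⟩, -, -, hfin'⟩ := main c' hc' hc'Q (by rw [polar_comm]; exact hc'b)
    (fun hm => hc'n (Submodule.span_mono (by simp) hm))
    (by
      rw [hlspan, polar_smul_left, polar_sub_left, polar_smul_left, polar_comm Q c c', hc'c,
        polar_comm Q b c', hc'b]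
      simp)
  refine hfin' fun κ he => hc'n ?_
  rw [hβ', hlspan] at he
  rw [show c' = μ' • b + (κ • ν⁻¹ • (c - μ • b)) by rw [← he]; abel]
  exact add_mem (Submodule.smul_mem _ _ (Submodule.subset_span ⟨0, rfl⟩))
    (Submodule.smul_mem _ _ (Submodule.smul_mem _ _ (sub_mem (Submodule.subset_span ⟨1, rfl⟩)
      (Submodule.smul_mem _ _ (Submodule.subset_span ⟨0, rfl⟩)))))

end Cfsg.Agent.Omega8Minus50.Sub
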