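import Cfsg.Agent.Omega8Minus50.Sub.Ring

/-!
A root element at an irrational plane with a rational singular vector orthogonal to it gives an
irrational coefficient (helper50, dimension eight and odd index, after helper24).
-/

set_option autoImplicit false
set_option linter.unusedSectionVars false

namespace Cfsg.Agent.Omega8Minus50.Sub

open QuadraticMap Matrix Cfsg.Agent.UnitaryOrthogonal Cfsg.Agent.SubfieldTwo

variable {ι : Type} [Fintype ι] [DecidableEq ι] {F : Type*} [Field F] [Finite F]
variable {Q : QuadraticForm F (ι → F)} {F₀ : Subfield F} {P : GL ι F}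
variable {M : Subgroup (orth Q)}

/-- The plane of `u` and `w` is spanned by rational vectors. -/
def RatPlane (F₀ : Subfield F) (P : GL ι F) (u w : ι → F) : Prop :=
  ∃ p q, Rat F₀ P p ∧ Rat F₀ P q ∧ (∃ a b : F, u = a • p + b • q) ∧ ∃ a b : F, w = a • p + b • q

/-- An irrational coefficient of all rational root elements. -/
def Good (Q : QuadraticForm F (ι → F)) (F₀ : Subfield F) (P : GL ι F) (M : Subgroup (orth Q)) :
    Prop :=
  ∃ a ∉ F₀, Spread Q F₀ P M a

variable (hR : IsRatForm Q F₀ P) (hM : RatIn Q F₀ P M)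
include hR hM

theorem good_of_inA {b z : ι → F} (hb : Rat F₀ P b) (hbQ : Q b = 0) (hb0 : b ≠ 0)
    (h : InA M b z) (hz : ¬ ∃ z₀, Rat F₀ P z₀ ∧ ∃ c : F, z = z₀ + c • b) : Good Q F₀ P M := by
  by_contra hg
  have sing : ∀ c, Rat F₀ P c → Q c = 0 → polar Q b c = 0 → polar Q c z ∈ F₀ := by
    intro c hc hcQ hbc
    by_contra hne
    have hcn : c ∉ Submodule.span F {b} := fun hm => hne (by
      obtain ⟨γ, rfl⟩ := Submodule.mem_span_singleton.mp hm
      rw [polar_smul_left, h.1, smul_zero]; exact zero_mem F₀)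
    have h1 := inA_coeff hR hM hb hbQ hc hcQ hbc h (one_mem F₀)
    rw [one_mul] at h1
    exact hg ⟨_, hne, spread_of_one hR hM hb hbQ hb0 hc hcQ hbc hcn h1⟩
  have all : ∀ x, Rat F₀ P x → polar Q b x = 0 → polar Q z x ∈ F₀ := by
    intro x hx hbx
    by_cases hxQ : Q x = 0
    · rw [polar_comm]; exact sing x hx hxQ hbx
    have hxn : x ∉ Submodule.span F {b} := fun hm => hxQ (by
      obtain ⟨γ, rfl⟩ := Submodule.mem_span_singleton.mp hm
      rw [form_smul, hbQ, mul_zero])
    obtain ⟨r, hr, hrQ, hrb, hrx⟩ := exists_singular_sep hR ![b]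
      (by intro i; fin_cases i; simpa) hx (notMem_single hxn) (by norm_num)
    have hbr : polar Q b r = 0 := by rw [polar_comm]; exact hrb 0
    set t := -Q x / polar Q r x
    have ht : t ∈ F₀ := div_mem (neg_mem (hR.val x hx)) (polar_rat hR hr hx)
    have h1 := sing (x + t • r) (rat_add hx (rat_smul ht hr)) (by
      rw [form_add, form_smul, hrQ, polar_smul_right, polar_comm Q x r, smul_eq_mul]
      simp [t, div_mul_cancel₀ _ hrx])
      (by rw [polar_add_right, polar_smul_right, hbx, hbr]; simp)
    have h2 := sing r hr hrQ hbr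
    rw [polar_comm, polar_add_right, polar_smul_right, polar_comm Q z r, smul_eq_mul] at h1
    have := sub_mem h1 (mul_mem ht h2)
    rwa [add_sub_cancel_right] at this
  obtain ⟨d, hd, hdb⟩ := exists_dual_one hR hb hb0
  have hbd : polar Q b d = 1 := by rw [polar_comm]; exact hdb
  set γ := polar Q z d
  refine hz ⟨z - γ • b, rat_of_polar hR fun x hx => ?_, γ, by abel⟩
  have hzb : polar Q z b = 0 := by rw [polar_comm]; exact h.1
  have h1 := all (x - polar Q b x • d) (rat_sub hx (rat_smul (polar_rat hR hb hx) hd))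
    (by rw [polar_sub_right, polar_smul_right, hbd, smul_eq_mul, mul_one, sub_self])
  rw [polar_sub_right, polar_smul_right, smul_eq_mul] at h1
  rw [polar_sub_left, polar_smul_left, smul_eq_mul, mul_comm]
  exact h1

omit hM in
theorem exists_two {b u w : ι → F} (hb : Rat F₀ P b) (hbQ : Q b = 0) (hb0 : b ≠ 0)
    (hbu : polar Q b u = 0) (hbw : polar Q b w = 0)
    (hind : ∀ s t : F, ∀ c : F, s • u + t • w + c • b = 0 → s = 0 ∧ t = 0) :
    ∃ z₁ z₂, Rat F₀ P z₁ ∧ Rat F₀ P z₂ ∧ polar Q b z₁ = 0 ∧ polar Q b z₂ = 0 ∧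
      polar Q z₁ u * polar Q z₂ w - polar Q z₂ u * polar Q z₁ w ≠ 0 := by
  by_contra hcon
  simp only [not_exists, not_and, not_not] at hcon
  obtain ⟨d, hd, hdb⟩ := exists_dual_one hR hb hb0
  have hbd : polar Q b d = 1 := by rw [polar_comm]; exact hdb
  set v : ι → ι → F := fun j => col P j - polar Q b (col P j) • d
  have hv : ∀ j, Rat F₀ P (v j) ∧ polar Q b (v j) = 0 := fun j =>
    ⟨rat_sub (rat_col j) (rat_smul (polar_rat hR hb (rat_col j)) hd), by
      rw [polar_sub_right, polar_smul_right, hbd, smul_eq_mul, mul_one, sub_self]⟩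
  -- the pairing with `u` and with `w` are proportional on the vectors orthogonal to `b`
  obtain ⟨s, t, hst, hzero⟩ : ∃ s t : F, (s ≠ 0 ∨ t ≠ 0) ∧
      ∀ j, s * polar Q (v j) u + t * polar Q (v j) w = 0 := by
    by_cases h : ∀ j, polar Q (v j) u = 0
    · exact ⟨1, 0, Or.inl one_ne_zero, fun j => by simp [h j]⟩
    obtain ⟨i, hi⟩ := not_forall.mp h
    exact ⟨polar Q (v i) w, -polar Q (v i) u, Or.inr (neg_ne_zero.mpr hi), fun j => by
      linear_combination hcon (v j) (v i) (hv j).1 (hv i).1 (hv j).2 (hv i).2⟩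
  set l := s • u + t • w with hl
  have hlb : polar Q b l = 0 := by
    rw [hl, polar_add_right, polar_smul_right, polar_smul_right, hbu, hbw]; simp
  have h0 : l + (-polar Q l d) • b = 0 := by
    refine eq_zero_of_polar_rat hR fun x hx => ?_
    refine SubfieldTwo.eq_zero_of_rat (F₀ := F₀) (P := P) (polarBilin Q _) (fun y hy => ?_) x
    show polar Q _ y = 0
    have e : y = ∑ j, coord P y j • v j + polar Q b y • d := by
      have h1 : polar Q b y = ∑ j, coord P y j * polar Q b (col P j) := by
        conv_lhs => rw [eq_sum_col (P := P) y]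
        show polarBilin Q b _ = _
        simp [map_sum]
      simp only [v, smul_sub, smul_smul, Finset.sum_sub_distrib, ← Finset.sum_smul, ← h1,
        sub_add_cancel]
      exact eq_sum_col y
    rw [e, polar_add_right]
    have h2 : ∀ j, polar Q (l + (-polar Q l d) • b) (v j) = 0 := fun j => by
      rw [polar_add_left, polar_smul_left, (hv j).2, hl, polar_add_left, polar_smul_left,
        polar_smul_left, polar_comm Q u, polar_comm Q w]
      simp [hzero j]
    have h3 : polar Q (l + (-polar Q l d) • b) d = 0 := by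
      rw [polar_add_left, polar_smul_left, hbd, smul_eq_mul, mul_one, add_neg_cancel]
    rw [polar_smul_right, h3, smul_zero, add_zero]
    show polarBilin Q _ _ = 0
    rw [map_sum]
    exact Finset.sum_eq_zero fun j _ => by
      rw [map_smul, show polarBilin Q (l + (-polar Q l d) • b) (v j) = 0 from h2 j, smul_zero]
  obtain ⟨hs, ht⟩ := hind s t (-polar Q l d) h0
  exact hst.elim (fun h => h hs) (fun h => h ht)

/-- A root element at an irrational plane orthogonal to a rational singular vector. -/
theorem good_of_plane {b u w : ι → F} (hb : Rat F₀ P b) (hbQ : Q b = 0) (hb0 : b ≠ 0)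
    (huQ : Q u = 0) (hwQ : Q w = 0) (huw : polar Q u w = 0)
    (hbu : polar Q b u = 0) (hbw : polar Q b w = 0) (hk : eich Q u w ∈ M)
    (huw' : ∀ s t : F, s • u + t • w = 0 → s = 0 ∧ t = 0)
    (hpl : ¬ RatPlane F₀ P u w) : Good Q F₀ P M := by
  by_contra hg
  have hwu : polar Q w u = 0 := by rw [polar_comm]; exact huw
  -- the plane contains no rational singular vector orthogonal to it
  have outside : ∀ b, Rat F₀ P b → Q b = 0 → b ≠ 0 → polar Q b u = 0 → polar Q b w = 0 →
      ∀ s t c : F, s • u + t • w + c • b = 0 → s = 0 ∧ t = 0 := by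
    intro b hb hbQ hb0 hbu hbw
    have key : ∀ u w : ι → F, Q u = 0 → polar Q u w = 0 → polar Q b w = 0 → eich Q u w ∈ M →
        ¬ RatPlane F₀ P u w → ∀ s t : F, s ≠ 0 → s • u + t • w ≠ b := by
      intro u w huQ huw hbw hk hpl s t hs e
      have hu : u = s⁻¹ • b + (-(t / s)) • w := by
        rw [← e, smul_add, smul_smul, smul_smul, inv_mul_cancel₀ hs, one_smul, div_eq_mul_inv]
        module
      have h1 : InA M b (s⁻¹ • w) := by
        refine ⟨by rw [polar_smul_right, hbw, smul_zero], ?_⟩
        convert! hk using 1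
        refine orth_ext fun x => ?_
        rw [eich_apply hbQ (by rw [polar_smul_right, hbw, smul_zero]), eich_apply huQ huw]
        conv_rhs => rw [hu]
        simp only [form_smul, polar_smul_left, polar_add_left, smul_eq_mul]
        have hwQ' : t = 0 ∨ Q w = 0 := by
          by_cases ht : t = 0
          · exact Or.inl ht
          · right
            have h := congrArg (fun v => Q v) e
            simp only [form_add, form_smul, polar_smul_left, polar_smul_right, huQ, huw,
              hbQ, smul_eq_mul, mul_zero, zero_add, add_zero] at h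
            exact (mul_eq_zero.mp h).resolve_left (mul_ne_zero ht ht)
        rcases hwQ' with ht | hw
        · subst ht; simp only [zero_div, neg_zero, zero_smul, zero_mul, add_zero]; module
        · simp only [hw]; module
      refine hg (good_of_inA hR hM hb hbQ hb0 h1 ?_)
      rintro ⟨z₀, hz₀, c, hc⟩
      refine hpl ⟨b, z₀, hb, hz₀, ?_⟩
      have hw : w = (s * c) • b + s • z₀ := by
        rw [mul_smul, ← smul_add, add_comm, ← hc, smul_smul, mul_inv_cancel₀ hs, one_smul]
      exact ⟨⟨s⁻¹ + (-(t / s)) * (s * c), (-(t / s)) * s, by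
        conv_lhs => rw [hu, hw]
        module⟩, ⟨_, _, hw⟩⟩
    intro s t c h
    by_cases hc : c = 0
    · subst hc
      rw [zero_smul, add_zero] at h
      exact huw' s t h
    · exfalso
      set s' := -(c⁻¹ * s) with hs'
      set t' := -(c⁻¹ * t) with ht'
      have e : s' • u + t' • w = b := by
        have h1 := congrArg (fun v => c⁻¹ • v) h
        simp only [smul_add, smul_smul, inv_mul_cancel₀ hc, one_smul, smul_zero] at h1
        rw [hs', ht', neg_smul, neg_smul, ← sub_eq_zero, ← neg_eq_zero]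
        rw [← h1]
        abel
      by_cases hs0 : s' = 0
      · by_cases ht0 : t' = 0
        · exact hb0 (by rw [← e, hs0, ht0]; simp)
        · have hk' : eich Q w (-u) ∈ M := by
            convert! hk using 1
            refine orth_ext fun x => ?_
            rw [eich_apply hwQ (by rw [polar_neg_right, hwu, neg_zero]), eich_apply huQ huw]
            simp only [QuadraticMap.map_neg, huQ, hwQ, polar_neg_left]
            module
          refine key w (-u) hwQ (by rw [polar_neg_right, hwu, neg_zero])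
            (by rw [polar_neg_right, hbu, neg_zero]) hk' ?_ t' 0 ht0 (by rw [← e, hs0]; simp)
          rintro ⟨p, q, hp, hq, hw', α, β, hu'⟩
          exact hpl ⟨p, q, hp, hq, ⟨-α, -β, by rw [← neg_neg u, hu']; module⟩, hw'⟩
      · exact key u w huQ huw hbw hk hpl s' t' hs0 e
  -- a rational space of dimension three containing the plane
  have three : ∀ b, Rat F₀ P b → Q b = 0 → b ≠ 0 → polar Q b u = 0 → polar Q b w = 0 →
      ∃ z₁ z₂, Rat F₀ P z₁ ∧ Rat F₀ P z₂ ∧ (∃ a a' c : F, u = a • z₁ + a' • z₂ + c • b) ∧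
        ∃ a a' c : F, w = a • z₁ + a' • z₂ + c • b := by
    intro b hb hbQ hb0 hbu hbw
    have hub : polar Q u b = 0 := by rw [polar_comm]; exact hbu
    have hwb : polar Q w b = 0 := by rw [polar_comm]; exact hbw
    obtain ⟨z₁, z₂, hz₁, hz₂, hz₁b, hz₂b, hD⟩ :=
      exists_two hR hb hbQ hb0 hbu hbw (outside b hb hbQ hb0 hbu hbw)
    have img : ∀ z, Rat F₀ P z → polar Q b z = 0 → ∃ z₀, Rat F₀ P z₀ ∧ ∃ c : F,
        polar Q z u • w - polar Q z w • u = z₀ + c • b := by
      intro z hz hbz
      by_contra hne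
      refine hg (good_of_inA hR hM hb hbQ hb0 ?_ hne)
      have h1 := inA_map hk (inA_rat hR hM hb hz hbQ hbz)
      have hfix : (eich Q u w).1 b = b := by
        rw [eich_apply huQ huw, hub, hwb]; simp
      rw [hfix, eich_apply huQ huw, hwQ] at h1
      have h2 := inA_sub hbQ h1 (inA_rat hR hM hb hz hbQ hbz)
      convert! h2 using 1
      rw [polar_comm Q z u, polar_comm Q z w]
      module
    obtain ⟨y₁, hy₁, c₁, e₁⟩ := img z₁ hz₁ hz₁b
    obtain ⟨y₂, hy₂, c₂, e₂⟩ := img z₂ hz₂ hz₂b
    set D := polar Q z₁ u * polar Q z₂ w - polar Q z₂ u * polar Q z₁ w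
    refine ⟨y₁, y₂, hy₁, hy₂,
      ⟨D⁻¹ * polar Q z₂ u, -(D⁻¹ * polar Q z₁ u),
        D⁻¹ * (polar Q z₂ u * c₁ - polar Q z₁ u * c₂), ?_⟩,
      ⟨D⁻¹ * polar Q z₂ w, -(D⁻¹ * polar Q z₁ w),
        D⁻¹ * (polar Q z₂ w * c₁ - polar Q z₁ w * c₂), ?_⟩⟩
    · have : D • u = polar Q z₂ u • (y₁ + c₁ • b) - polar Q z₁ u • (y₂ + c₂ • b) := by
        rw [← e₁, ← e₂]; simp only [D]; module
      conv_lhs => rw [← inv_smul_smul₀ hD u, this]
      module
    · have : D • w = polar Q z₂ w • (y₁ + c₁ • b) - polar Q z₁ w • (y₂ + c₂ • b) := by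
        rw [← e₁, ← e₂]; simp only [D]; module
      conv_lhs => rw [← inv_smul_smul₀ hD w, this]
      module
  obtain ⟨p₁, p₂, hp₁, hp₂, ⟨a, a', c, hu⟩, d, d', e, hw⟩ := three b hb hbQ hb0 hbu hbw
  obtain ⟨p, hpd⟩ : ∃ p : Fin 3 → ι → F, p = ![p₁, p₂, b] := ⟨_, rfl⟩
  have hpR : ∀ i, Rat F₀ P (p i) := by intro i; fin_cases i <;> simp [hpd, hp₁, hp₂, hb]
  -- the span of the plane and `b`
  have hub : Submodule.span F (Set.range ![u, w, b]) ≤ Submodule.span F (Set.range p) := by
    rw [Submodule.span_le]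
    rintro _ ⟨i, rfl⟩
    have hmem : ∀ x y z : F, x • p₁ + y • p₂ + z • b ∈ Submodule.span F (Set.range p) :=
      fun x y z => add_mem (add_mem (Submodule.smul_mem _ _ (Submodule.subset_span ⟨0, by simp [hpd]⟩))
        (Submodule.smul_mem _ _ (Submodule.subset_span ⟨1, by simp [hpd]⟩)))
        (Submodule.smul_mem _ _ (Submodule.subset_span ⟨2, by simp [hpd]⟩))
    fin_cases i
    · show u ∈ _
      rw [hu]; exact hmem _ _ _
    · show w ∈ _
      rw [hw]; exact hmem _ _ _
    · show b ∈ _
      exact Submodule.subset_span ⟨2, by simp [hpd]⟩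
  have hli : LinearIndependent F ![u, w, b] := by
    rw [Fintype.linearIndependent_iff]
    intro g hg i
    simp [Fin.sum_univ_three] at hg
    obtain ⟨h1, h2⟩ := outside b hb hbQ hb0 hbu hbw _ _ _ hg
    rw [h1, h2, zero_smul, zero_smul, zero_add, zero_add] at hg
    have h3 := (smul_eq_zero.mp hg).resolve_right hb0
    fin_cases i <;> assumption
  have hrk := finrank_span_eq_card hli
  rw [Fintype.card_fin] at hrk
  have hle3 : Module.finrank F (Submodule.span F (Set.range p)) ≤ 3 := by
    have := finrank_range_le_card (R := F) p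
    rw [Set.finrank] at this
    simpa using this
  have heq := Submodule.eq_of_le_of_finrank_le hub (by rw [hrk]; exact hle3)
  have hlip : LinearIndependent F p := by
    rw [linearIndependent_iff_card_eq_finrank_span, Set.finrank, ← heq, hrk, Fintype.card_fin]
  have hts : ∀ i j, Q (p i) = 0 ∧ polar Q (p i) (p j) = 0 := by
    have hmem : ∀ i, ∃ x y z : F, p i = x • u + y • w + z • b := fun i => by
      have hi : p i ∈ Submodule.span F (Set.range ![u, w, b]) := by
        rw [heq]; exact Submodule.subset_span ⟨i, rfl⟩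
      obtain ⟨g, hg⟩ := (Submodule.mem_span_range_iff_exists_fun F).mp hi
      exact ⟨g 0, g 1, g 2, by rw [← hg]; simp [Fin.sum_univ_three]⟩
    intro i j
    obtain ⟨x, y, z, hi⟩ := hmem i
    obtain ⟨x', y', z', hj⟩ := hmem j
    constructor
    · rw [hi]
      simp [form_add, form_smul, polar_add_left, polar_smul_left, polar_smul_right, huQ, hwQ, hbQ,
        huw, polar_comm Q u b, polar_comm Q w b, hbu, hbw]
    · rw [hi, hj]
      simp [polar_add_left, polar_add_right, polar_smul_left, polar_smul_right, polar_self_eq, huQ,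
        hwQ, hbQ, huw, hwu, polar_comm Q u b, polar_comm Q w b, hbu, hbw]
  have hperp : ∀ i, polar Q (p i) u = 0 ∧ polar Q (p i) w = 0 := fun i => by
    constructor
    · rw [hu, polar_add_right, polar_add_right, polar_smul_right, polar_smul_right,
        polar_smul_right, show p₁ = p 0 by simp [hpd], show p₂ = p 1 by simp [hpd],
        show b = p 2 by simp [hpd], (hts i 0).2, (hts i 1).2, (hts i 2).2]
      simp
    · rw [hw, polar_add_right, polar_add_right, polar_smul_right, polar_smul_right,
        polar_smul_right, show p₁ = p 0 by simp [hpd], show p₂ = p 1 by simp [hpd],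
        show b = p 2 by simp [hpd], (hts i 0).2, (hts i 1).2, (hts i 2).2]
      simp
  set A : Fin 3 → F := ![a, a', c]
  set B : Fin 3 → F := ![d, d', e]
  -- the minors are rational
  have minor : ∀ i k l : Fin 3, i ≠ k → i ≠ l → k ≠ l → A l * B k - A k * B l ∈ F₀ := by
    intro i k l hik hil hkl
    have dual : ∀ k i : Fin 3, k ≠ i → ∀ l, l ≠ k → l ≠ i →
        ∃ z, Rat F₀ P z ∧ polar Q z (p i) = 0 ∧ polar Q z (p l) = 0 ∧ polar Q z (p k) = 1 := by
      intro k i hki l hlk hli'
      obtain ⟨z, hz, hzp, hz1⟩ := exists_dual hR ![p i, p l]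
        (by intro m; fin_cases m <;> simp [hpR]) (hpR k) (fun hm => by
          obtain ⟨g, hg⟩ := (Submodule.mem_span_range_iff_exists_fun F).mp hm
          simp [Fin.sum_univ_two] at hg
          have h0 := Fintype.linearIndependent_iff.mp hlip
            (Pi.single i (g 0) + Pi.single l (g 1) - Pi.single k 1) (by
              simp [Pi.single_apply, sub_smul, add_smul, ite_smul, Finset.sum_add_distrib,
                Finset.sum_sub_distrib, hg]) k
          simp [hki, hlk.symm] at h0)
      exact ⟨z, hz, hzp 0, hzp 1, hz1⟩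
    obtain ⟨z, hz, hzi, hzl, hzk⟩ := dual k i hik.symm l hkl.symm hil.symm
    obtain ⟨d₀, hd₀, hdi, hdk, hdl⟩ := dual l i hil.symm k hkl hik.symm
    have hiu : polar Q (p i) z = 0 := by rw [polar_comm]; exact hzi
    have hpi0 : p i ≠ 0 := hlip.ne_zero i
    have hfix : (eich Q u w).1 (p i) = p i := by
      rw [eich_apply huQ huw, polar_comm Q u, (hperp i).1, polar_comm Q w, (hperp i).2]
      simp
    have h1 := inA_map hk (inA_rat hR hM (hpR i) hz (hts i i).1 hiu)
    rw [hfix, eich_apply huQ huw, hwQ] at h1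
    have h2 := inA_sub (hts i i).1 h1 (inA_rat hR hM (hpR i) hz (hts i i).1 hiu)
    by_contra hne
    refine hg (good_of_inA hR hM (hpR i) (hts i i).1 hpi0 h2 ?_)
    rintro ⟨z₀, hz₀, γ, he⟩
    have h3 := congrArg (polarBilin Q d₀) he
    have hx : ∀ x : Fin 3 → F, ∀ y, polar Q y (x 0 • p 0 + x 1 • p 1 + x 2 • p 2) =
        ∑ m, x m * polar Q y (p m) := fun x y => by
      simp [polar_add_right, polar_smul_right, Fin.sum_univ_three]
    have hu' : u = A 0 • p 0 + A 1 • p 1 + A 2 • p 2 := by rw [hu]; simp [A, hpd]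
    have hw' : w = B 0 • p 0 + B 1 • p 1 + B 2 • p 2 := by rw [hw]; simp [B, hpd]
    have v3 : ∀ (x : Fin 3 → F) (y : ι → F) (m : Fin 3), polar Q y (p i) = 0 →
        (∀ n, n ≠ i → n ≠ m → polar Q y (p n) = 0) → polar Q y (p m) = 1 →
        ∑ n, x n * polar Q y (p n) = x m := fun x y m h0 h1 h2 => by
      rw [Finset.sum_eq_single m (fun n _ hn => by
        by_cases hni : n = i
        · rw [hni, h0, mul_zero]
        · rw [h1 n hni hn, mul_zero]) (by simp), h2, mul_one]
    have three_cases : ∀ n, n ≠ i → n ≠ k → n = l :=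
      (by decide : ∀ i k l : Fin 3, i ≠ k → i ≠ l → k ≠ l → ∀ n, n ≠ i → n ≠ k → n = l) i k l
        hik hil hkl
    have three_cases' : ∀ n, n ≠ i → n ≠ l → n = k :=
      (by decide : ∀ i k l : Fin 3, i ≠ k → i ≠ l → k ≠ l → ∀ n, n ≠ i → n ≠ l → n = k) i k l
        hik hil hkl
    have zu : polar Q z u = A k := by
      rw [hu', hx, v3 A z k hzi (fun n h1 h2 => three_cases n h1 h2 ▸ hzl) hzk]
    have zw : polar Q z w = B k := by
      rw [hw', hx, v3 B z k hzi (fun n h1 h2 => three_cases n h1 h2 ▸ hzl) hzk]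
    have du : polar Q d₀ u = A l := by
      rw [hu', hx, v3 A d₀ l hdi (fun n h1 h2 => three_cases' n h1 h2 ▸ hdk) hdl]
    have dw : polar Q d₀ w = B l := by
      rw [hw', hx, v3 B d₀ l hdi (fun n h1 h2 => three_cases' n h1 h2 ▸ hdk) hdl]
    simp only [map_add, map_sub, map_smul, polarBilin_apply_apply, smul_eq_mul, zero_mul,
      polar_comm Q u z, polar_comm Q w z, zu, zw, du, dw, hdi, mul_zero, add_zero] at h3
    refine hne ?_
    have h5 := polar_rat hR hd₀ hz₀
    rw [← h3] at h5
    convert neg_mem h5 using 1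
    ring
  have fromPair : ∀ i k l : Fin 3, i ≠ k → i ≠ l → k ≠ l → A k * B l - A l * B k ≠ 0 →
      RatPlane F₀ P u w := by
    intro i k l hik hil hkl hD
    obtain ⟨D, hDd⟩ : ∃ D, D = A k * B l - A l * B k := ⟨_, rfl⟩
    rw [← hDd] at hD
    have hDF : D ∈ F₀ := by
      convert neg_mem (minor i k l hik hil hkl) using 1
      rw [hDd]; ring
    have hk' : A i * B l - A l * B i ∈ F₀ := by
      convert neg_mem (minor k i l hik.symm hkl hil) using 1
      ring
    have hl' : A i * B k - A k * B i ∈ F₀ := by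
      convert neg_mem (minor l i k hil.symm hkl.symm hik) using 1
      ring
    have hsum : ∀ x : Fin 3 → F, x 0 • p 0 + x 1 • p 1 + x 2 • p 2 =
        x i • p i + x k • p k + x l • p l := by
      revert hik hil hkl
      intro hik hil hkl x
      fin_cases i <;> fin_cases k <;> fin_cases l <;> simp at hik hil hkl ⊢ <;> abel
    refine ⟨p k + ((A i * B l - A l * B i) / D) • p i, p l + (-(A i * B k - A k * B i) / D) • p i,
      rat_add (hpR k) (rat_smul (div_mem hk' hDF) (hpR i)),
      rat_add (hpR l) (rat_smul (div_mem (neg_mem hl') hDF) (hpR i)), ⟨A k, A l, ?_⟩, B k, B l, ?_⟩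
    · rw [hu, show a • p₁ + a' • p₂ + c • b = A 0 • p 0 + A 1 • p 1 + A 2 • p 2 by simp [A, hpd],
        hsum A]
      match_scalars <;> field_simp <;> rw [hDd] <;> ring
    · rw [hw, show d • p₁ + d' • p₂ + e • b = B 0 • p 0 + B 1 • p 1 + B 2 • p 2 by simp [B, hpd],
        hsum B]
      match_scalars <;> field_simp <;> rw [hDd] <;> ring
  by_cases h01 : A 0 * B 1 - A 1 * B 0 = 0
  swap
  · exact hpl (fromPair 2 0 1 (by decide) (by decide) (by decide) h01)
  by_cases h02 : A 0 * B 2 - A 2 * B 0 = 0
  swap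
  · exact hpl (fromPair 1 0 2 (by decide) (by decide) (by decide) h02)
  by_cases h12 : A 1 * B 2 - A 2 * B 1 = 0
  swap
  · exact hpl (fromPair 0 1 2 (by decide) (by decide) (by decide) h12)
  -- then `u` and `w` are dependent
  have hu3 : u = A 0 • p 0 + A 1 • p 1 + A 2 • p 2 := by rw [hu]; simp [A, hpd]
  have hw3 : w = B 0 • p 0 + B 1 • p 1 + B 2 • p 2 := by rw [hw]; simp [B, hpd]
  obtain ⟨m, hm⟩ : ∃ m, A m ≠ 0 := by
    by_contra hA0
    simp only [not_exists, not_not] at hA0
    exact one_ne_zero (huw' 1 0 (by rw [hu3, hA0, hA0, hA0]; simp)).1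
  have hall : ∀ n, A m * B n = A n * B m := by
    intro n
    rcases (by decide : ∀ m : Fin 3, m = 0 ∨ m = 1 ∨ m = 2) m with rfl | rfl | rfl <;>
      rcases (by decide : ∀ m : Fin 3, m = 0 ∨ m = 1 ∨ m = 2) n with rfl | rfl | rfl <;>
      first
        | rfl
        | linear_combination h01
        | linear_combination -h01
        | linear_combination h02
        | linear_combination -h02
        | linear_combination h12
        | linear_combination -h12
  have := (huw' (B m) (-A m) (by
    rw [hu3, hw3]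
    match_scalars <;> (first | linear_combination -(hall 0) | linear_combination -(hall 1) |
      linear_combination -(hall 2)))).2
  exact hm (neg_eq_zero.mp this)

end Cfsg.Agent.Omega8Minus50.Sub
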