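import Cfsg.Agent.Omega8Minus50.Sub.Det

/-!
Rational hyperbolic frames of rank three (helper50, after helper24).
-/

set_option autoImplicit false
set_option linter.unusedSectionVars false

namespace Cfsg.Agent.Omega8Minus50.Sub

open QuadraticMap Matrix Cfsg.Agent.UnitaryOrthogonal Cfsg.Agent.SubfieldTwo

variable {ι : Type} [Fintype ι] [DecidableEq ι] {F : Type*} [Field F] [Finite F]
variable {Q : QuadraticForm F (ι → F)} {F₀ : Subfield F} {P : GL ι F}

/-- A rational hyperbolic frame of rank three whose first plane is non-degenerately paired with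
`u, w`. -/
structure IsFrame (Q : QuadraticForm F (ι → F)) (F₀ : Subfield F) (P : GL ι F) (u w : ι → F)
    (e f : Fin 3 → ι → F) : Prop where
  ratE : ∀ i, Rat F₀ P (e i)
  ratF : ∀ i, Rat F₀ P (f i)
  qE : ∀ i, Q (e i) = 0
  qF : ∀ i, Q (f i) = 0
  ee : ∀ i j, polar Q (e i) (e j) = 0
  ef : ∀ i j, polar Q (e i) (f j) = if i = j then 1 else 0
  ff : ∀ i j, i ≠ j → polar Q (f i) (f j) = 0
  det : polar Q (e 0) u * polar Q (e 1) w - polar Q (e 1) u * polar Q (e 0) w ≠ 0

variable (hR : IsRatForm Q F₀ P)
include hR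

theorem exists_frame {u w : ι → F}
    (hdetne : ∀ b c, Rat F₀ P b → Rat F₀ P c → Q b = 0 → Q c = 0 → polar Q b c = 0 → b ≠ 0 →
      c ∉ Submodule.span F {b} → pdet Q u w b c ≠ 0) :
    ∃ e f, IsFrame Q F₀ P u w e f := by
  have hn := hR.dim
  obtain ⟨e₀, he₀, he₀0, he₀Q, -⟩ := exists_singular hR ![] (fun i => i.elim0) (by omega)
  obtain ⟨e₁, he₁, he₁Q, he₁p, he₁n⟩ := exists_singular_out hR ![e₀]
    (by intro i; fin_cases i; simpa) (by omega)
  obtain ⟨e₂, he₂, he₂Q, he₂p, he₂n⟩ := exists_singular_out hR ![e₀, e₁]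
    (by intro i; fin_cases i <;> simpa) (by omega)
  have h01 : polar Q e₀ e₁ = 0 := by rw [polar_comm]; exact he₁p 0
  have he₁n' : e₁ ∉ Submodule.span F {e₀} := by simpa using he₁n
  have hdet := hdetne e₀ e₁ he₀ he₁ he₀Q he₁Q h01 he₀0 he₁n'
  rw [pdet] at hdet
  set e : Fin 3 → ι → F := ![e₀, e₁, e₂] with hedef
  have hrE : ∀ i, Rat F₀ P (e i) := by intro i; fin_cases i <;> simpa [hedef]
  have hqE : ∀ i, Q (e i) = 0 := by intro i; fin_cases i <;> simpa [hedef]
  have hee : ∀ i j, polar Q (e i) (e j) = 0 := by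
    have hs : ∀ x, Q x = 0 → polar Q x x = 0 := fun x hx => by rw [polar_self_eq, hx, mul_zero]
    have h02 : polar Q e₂ e₀ = 0 := he₂p 0
    have h12 : polar Q e₂ e₁ = 0 := he₂p 1
    intro i j
    fin_cases i <;> fin_cases j <;> simp [hedef, hs, he₀Q, he₁Q, he₂Q, h01, h02, h12,
      polar_comm Q e₁ e₀, polar_comm Q e₀ e₂, polar_comm Q e₁ e₂]
  have hind : ∀ c : Fin 3 → F, ∑ i, c i • e i = 0 → ∀ i, c i = 0 := by
    intro c hc
    simp [Fin.sum_univ_three, hedef] at hc
    have h2 : c 2 = 0 := by
      by_contra h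
      refine he₂n ?_
      have : e₂ = (-(c 0 / c 2)) • e₀ + (-(c 1 / c 2)) • e₁ := by
        rw [← sub_eq_zero]
        have h1 := congrArg (fun v => (c 2)⁻¹ • v) hc
        simp only [smul_add, smul_smul, inv_mul_cancel₀ h, one_smul, smul_zero] at h1
        rw [← h1]
        simp only [div_eq_inv_mul]
        module
      rw [this]
      exact add_mem (Submodule.smul_mem _ _ (Submodule.subset_span ⟨0, rfl⟩))
        (Submodule.smul_mem _ _ (Submodule.subset_span ⟨1, rfl⟩))
    rw [h2, zero_smul, add_zero] at hc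
    have hu := congrArg (fun v => polar Q v u) hc
    have hw := congrArg (fun v => polar Q v w) hc
    simp only [polar_add_left, polar_smul_left, polar_zero_left, smul_eq_mul] at hu hw
    have h0 : c 0 * (polar Q e₀ u * polar Q e₁ w - polar Q e₁ u * polar Q e₀ w) = 0 := by
      linear_combination polar Q e₁ w * hu - polar Q e₁ u * hw
    have h1 : c 1 * (polar Q e₀ u * polar Q e₁ w - polar Q e₁ u * polar Q e₀ w) = 0 := by
      linear_combination polar Q e₀ u * hw - polar Q e₀ w * hu
    intro i
    fin_cases i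
    · exact (mul_eq_zero.mp h0).resolve_right hdet
    · exact (mul_eq_zero.mp h1).resolve_right hdet
    · exact h2
  -- duals, one at a time
  have step : ∀ (i : Fin 3) (k : ℕ) (g : Fin k → ι → F) (a : Fin k → Fin 3),
      (∀ l, Rat F₀ P (g l)) → (∀ l, a l ≠ i) →
      (∀ l j, polar Q (e j) (g l) = if j = a l then 1 else 0) → Function.Injective a →
      ∃ f, Rat F₀ P f ∧ Q f = 0 ∧ (∀ j, polar Q (e j) f = if j = i then 1 else 0) ∧
        ∀ l, polar Q (g l) f = 0 := by
    intro i k g a hg hai hga hinj
    set p : Fin 3 → ι → F := Function.update e i 0 with hpdef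
    have hnot : e i ∉ Submodule.span F (Set.range (Fin.append p g)) := by
      intro hm
      obtain ⟨c, hc⟩ := (Submodule.mem_span_range_iff_exists_fun F).mp hm
      rw [Fin.sum_univ_add] at hc
      simp only [Fin.append_left, Fin.append_right] at hc
      have hcg : ∀ l, c (Fin.natAdd 3 l) = 0 := fun l => by
        have h1 := congrArg (polarBilin Q (e (a l))) hc
        have hp : ∀ j, polar Q (e (a l)) (p j) = 0 := fun j => by
          by_cases hj : j = i <;> simp [hpdef, hj, hee]
        simp only [map_add, map_sum, map_smul, polarBilin_apply_apply, hp, hee, smul_eq_mul,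
          mul_zero, Finset.sum_const_zero, zero_add, hga] at h1
        rw [Finset.sum_eq_single l (fun m _ hm => by
          rw [if_neg (fun h => hm (hinj h).symm), mul_zero]) (by simp)] at h1
        simpa using h1
      simp only [hcg, zero_smul, Finset.sum_const_zero, add_zero] at hc
      have := hind (fun j => (if j = i then 0 else c (Fin.castAdd k j)) - if j = i then 1 else 0) (by
        simp only [sub_smul, Finset.sum_sub_distrib, ite_smul, zero_smul, one_smul,
          Finset.sum_ite_eq', Finset.mem_univ, if_true]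
        rw [sub_eq_zero]
        conv_rhs => rw [← hc]
        exact Finset.sum_congr rfl fun j _ => by by_cases hj : j = i <;> simp [hpdef, hj]) i
      simp at this
    obtain ⟨d, hd, hdp, hdi⟩ := exists_dual hR (Fin.append p g)
      (Fin.addCases (fun j => by
        rw [Fin.append_left]
        by_cases hj : j = i
        · simp [hpdef, hj, rat_zero]
        · simpa [hpdef, hj] using hrE j)
        (fun l => by rw [Fin.append_right]; exact hg l)) (hrE i) hnot
    have hej : ∀ j, polar Q (e j) d = if j = i then 1 else 0 := fun j => by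
      by_cases hj : j = i
      · subst hj; rw [if_pos rfl, polar_comm]; exact hdi
      · have := hdp (Fin.castAdd k j)
        rw [Fin.append_left] at this
        rw [if_neg hj, polar_comm]
        simpa [hpdef, hj] using this
    refine ⟨d + (-Q d) • e i, rat_add hd (rat_smul (neg_mem (hR.val d hd)) (hrE i)), ?_,
      fun j => ?_, fun l => ?_⟩
    · rw [form_add, form_smul, hqE, polar_smul_right, polar_comm Q d (e i), hej, if_pos rfl]; simp
    · rw [polar_add_right, polar_smul_right, hej, hee, smul_zero, add_zero]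
    · have := hdp (Fin.natAdd 3 l)
      rw [Fin.append_right, polar_comm] at this
      rw [polar_add_right, polar_smul_right, this, polar_comm Q (g l) (e i), hga,
        if_neg (hai l).symm, smul_zero, add_zero]
  obtain ⟨f₀, r₀, q₀, p₀, -⟩ := step 0 0 ![] ![] (fun l => l.elim0) (fun l => l.elim0)
    (fun l => l.elim0) (fun l => l.elim0)
  obtain ⟨f₁, r₁, q₁, p₁, g₁⟩ := step 1 1 ![f₀] ![0] (by intro l; fin_cases l; simpa)
    (by decide) (by intro l; fin_cases l; simpa) (by decide)
  obtain ⟨f₂, r₂, q₂, p₂, g₂⟩ := step 2 2 ![f₀, f₁] ![0, 1] (by intro l; fin_cases l <;> simpa)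
    (by decide) (by intro l; fin_cases l <;> simpa) (by decide)
  refine ⟨e, ![f₀, f₁, f₂], hrE, ?_, hqE, ?_, hee, ?_, ?_, ?_⟩
  · intro i; fin_cases i <;> simpa
  · intro i; fin_cases i <;> simpa
  · intro i j; fin_cases j
    · simpa using p₀ i
    · simpa using p₁ i
    · simpa using p₂ i
  · have h01 : polar Q f₀ f₁ = 0 := g₁ 0
    have h02 : polar Q f₀ f₂ = 0 := g₂ 0
    have h12 : polar Q f₁ f₂ = 0 := g₂ 1
    intro i j hij
    fin_cases i <;> fin_cases j <;> simp [h01, h02, h12, polar_comm Q f₁ f₀,
      polar_comm Q f₂ f₀, polar_comm Q f₂ f₁] at hij ⊢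
  · simpa [hedef] using hdet

end Cfsg.Agent.Omega8Minus50.Sub
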