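import Cfsg.Agent.Omega8Minus50.Sub.Basic

/-!
Subgroups containing the rational Eichler transformations: the coefficients of the root elements
form a ring (helper50, dimension eight and odd index, after helper24).
-/

set_option autoImplicit false
set_option linter.unusedSectionVars false

namespace Cfsg.Agent.Omega8Minus50.Sub

open QuadraticMap Matrix Cfsg.Agent.UnitaryOrthogonal Cfsg.Agent.SubfieldTwo

variable {ι : Type} [Fintype ι] [DecidableEq ι] {F : Type*} [Field F] [Finite F]
variable {Q : QuadraticForm F (ι → F)} {F₀ : Subfield F} {P : GL ι F}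
variable {M : Subgroup (orth Q)}

/-- The rational Eichler transformations lie in `M`. -/
def RatIn (Q : QuadraticForm F (ι → F)) (F₀ : Subfield F) (P : GL ι F) (M : Subgroup (orth Q)) :
    Prop :=
  ∀ b z, Rat F₀ P b → Rat F₀ P z → Q b = 0 → polar Q b z = 0 → eich Q b z ∈ M

/-- `z` occurs among the root elements of `M` at `b`. -/
def InA (M : Subgroup (orth Q)) (b z : ι → F) : Prop := polar Q b z = 0 ∧ eich Q b z ∈ M

theorem inA_add {b z w : ι → F} (hb : Q b = 0) (h : InA M b z) (h' : InA M b w) :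
    InA M b (z + w) :=
  ⟨by rw [polar_add_right, h.1, h'.1, add_zero], eich_mul hb h.1 h'.1 ▸ mul_mem h.2 h'.2⟩

theorem inA_neg {b z : ι → F} (hb : Q b = 0) (h : InA M b z) : InA M b (-z) :=
  ⟨by rw [polar_neg_right, h.1, neg_zero], eich_inv hb h.1 ▸ inv_mem h.2⟩

theorem inA_sub {b z w : ι → F} (hb : Q b = 0) (h : InA M b z) (h' : InA M b w) :
    InA M b (z - w) := by
  rw [sub_eq_add_neg]; exact inA_add hb h (inA_neg hb h')

theorem inA_zero (b : ι → F) : InA M b 0 :=
  ⟨polar_zero_right Q b, by rw [eich_zero]; exact one_mem M⟩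

theorem inA_line {b : ι → F} (hb : Q b = 0) (c : F) : InA M b (c • b) := by
  refine ⟨by rw [polar_smul_right, polar_self_eq, hb]; simp, ?_⟩
  have h := eich_add_smul (z := 0) hb (polar_zero_right Q b) c
  rw [zero_add, eich_zero] at h
  rw [h]; exact one_mem M

theorem inA_map {b z : ι → F} {g : orth Q} (hg : g ∈ M) (h : InA M b z) :
    InA M (g.1 b) (g.1 z) :=
  ⟨by rw [map_polar, h.1], conj_eich g b z ▸ mul_mem (mul_mem hg h.2) (inv_mem hg)⟩

theorem inA_swap {b x : ι → F} {a : F} (hb : Q b = 0) (hx : Q x = 0) (hbx : polar Q b x = 0)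
    (h : InA M b (a • x)) : InA M x (a • b) := by
  have hxb : polar Q x b = 0 := by rw [polar_comm]; exact hbx
  refine ⟨by rw [polar_smul_right, hxb, smul_zero], ?_⟩
  have e : eich Q x (a • b) = (eich Q b (a • x))⁻¹ := by
    rw [eich_inv hb h.1]
    refine orth_ext fun v => ?_
    rw [eich_apply hx (by rw [polar_smul_right, hxb, smul_zero]),
      eich_apply hb (by rw [polar_neg_right, h.1, neg_zero])]
    simp only [polar_smul_left, polar_neg_left, form_smul, QuadraticMap.map_neg, hb, hx, smul_eq_mul]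
    module
  rw [e]; exact inv_mem h.2

/-- Two root elements at `c` move the data at `b` by a multiple of `c`. -/
theorem inA_second {b z c y y' : ι → F} (hb : Q b = 0) (hc : Q c = 0) (hbc : polar Q b c = 0)
    (hby : polar Q b y = 0) (hby' : polar Q b y' = 0) (hy : InA M c y) (hy' : InA M c y')
    (h : InA M b z) : InA M b ((polar Q y y' * polar Q c z) • c) := by
  have hcb : polar Q c b = 0 := by rw [polar_comm]; exact hbc
  have move : ∀ y, polar Q b y = 0 → InA M c y → InA M b
      (polar Q c z • y - polar Q y z • c - (Q y * polar Q c z) • c) := by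
    intro y hby hy
    have h1 := inA_map hy.2 h
    rw [eich_apply hc hy.1, eich_apply hc hy.1, hcb,
      show polar Q y b = 0 by rw [polar_comm]; exact hby] at h1
    simp only [zero_smul, mul_zero, sub_zero, add_zero] at h1
    have h2 := inA_sub hb h1 h
    convert! h2 using 1
    module
  have h1 := move (y + y') (by rw [polar_add_right, hby, hby', add_zero]) (inA_add hc hy hy')
  have h2 := inA_sub hb (inA_sub hb h1 (move y hby hy)) (move y' hby' hy')
  have h3 := inA_neg hb h2
  convert! h3 using 1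
  rw [form_add, polar_add_left]
  module

variable (hR : IsRatForm Q F₀ P) (hM : RatIn Q F₀ P M)
include hR hM

theorem inA_rat {b z : ι → F} (hb : Rat F₀ P b) (hz : Rat F₀ P z) (hbQ : Q b = 0)
    (h : polar Q b z = 0) : InA M b z :=
  ⟨h, hM b z hb hz hbQ h⟩

omit hM in
theorem exists_pair {b c : ι → F} (hb : Rat F₀ P b) (hc : Rat F₀ P c) :
    ∃ y y', Rat F₀ P y ∧ Rat F₀ P y' ∧ polar Q b y = 0 ∧ polar Q c y = 0 ∧ polar Q b y' = 0 ∧
      polar Q c y' = 0 ∧ polar Q y y' = 1 := by
  have hn := hR.dim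
  have hp : ∀ i, Rat F₀ P (![b, c] i) := by intro i; fin_cases i <;> simpa
  obtain ⟨y, hy, -, hyp, hyn⟩ := exists_singular_out hR ![b, c] hp (by omega)
  obtain ⟨y', hy', hy'p, h1⟩ := exists_dual hR ![b, c] hp hy hyn
  refine ⟨y, y', hy, hy', ?_, ?_, ?_, ?_, by rw [polar_comm]; exact h1⟩
  · rw [polar_comm]; exact hyp 0
  · rw [polar_comm]; exact hyp 1
  · rw [polar_comm]; exact hy'p 0
  · rw [polar_comm]; exact hy'p 1

/-- Any root datum gives multiples of the rational singular vectors. -/
theorem inA_coeff {b c z : ι → F} (hb : Rat F₀ P b) (hbQ : Q b = 0) (hc : Rat F₀ P c)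
    (hcQ : Q c = 0) (hbc : polar Q b c = 0) (h : InA M b z) {s : F} (hs : s ∈ F₀) :
    InA M b ((s * polar Q c z) • c) := by
  obtain ⟨y, y', hy, hy', h1, h2, h3, h4, h5⟩ := exists_pair hR hb hc
  have := inA_second (y' := s • y') hbQ hcQ hbc h1 (by rw [polar_smul_right, h3, smul_zero])
    (inA_rat hR hM hc hy hcQ h2)
    (inA_rat hR hM hc (rat_smul hs hy') hcQ (by rw [polar_smul_right, h4, smul_zero])) h
  rwa [polar_smul_right, h5, smul_eq_mul, mul_one] at this

omit hR hM in
theorem notMem_single {b x : ι → F} (hx : x ∉ Submodule.span F {b}) :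
    x ∉ Submodule.span F (Set.range ![b]) := by simpa using hx

/-- `a x` at `b` gives `a z` at `b` for all rational `z ⊥ b`. -/
theorem inA_spread {b x : ι → F} {a : F} (hb : Rat F₀ P b) (hbQ : Q b = 0) (hx : Rat F₀ P x)
    (hxQ : Q x = 0) (hbx : polar Q b x = 0) (hxn : x ∉ Submodule.span F {b})
    (h : InA M b (a • x)) {z : ι → F} (hz : Rat F₀ P z) (hbz : polar Q b z = 0) :
    InA M b (a • z) := by
  have near : ∀ y, Rat F₀ P y → InA M b (a • y) → ∀ c, Rat F₀ P c → Q c = 0 → polar Q b c = 0 →
      polar Q c y ≠ 0 → InA M b (a • c) := by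
    intro y hy hA c hc hcQ hbc hne
    have h1 := inA_coeff hR hM hb hbQ hc hcQ hbc hA (inv_mem (polar_rat hR hc hy))
    rwa [polar_smul_right, smul_eq_mul, ← mul_assoc, mul_comm _ a, mul_assoc,
      inv_mul_cancel₀ hne, mul_one] at h1
  have sing : ∀ c, Rat F₀ P c → Q c = 0 → polar Q b c = 0 → InA M b (a • c) := by
    intro c hc hcQ hbc
    by_cases hcn : c ∈ Submodule.span F {b}
    · obtain ⟨γ, rfl⟩ := Submodule.mem_span_singleton.mp hcn
      rw [smul_smul]; exact inA_line hbQ _
    by_cases hcx : polar Q c x = 0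
    swap
    · exact near x hx h c hc hcQ hbc hcx
    have hp : ∀ i, Rat F₀ P (![b] i) := by intro i; fin_cases i; simpa
    obtain ⟨d₁, hd₁, hd₁b, hd₁x⟩ := exists_dual hR ![b] hp hx (notMem_single hxn)
    obtain ⟨d₂, hd₂, hd₂b, hd₂c⟩ := exists_dual hR ![b] hp hc (notMem_single hcn)
    obtain ⟨d, hd, hdb, hdx, hdc⟩ : ∃ d, Rat F₀ P d ∧ polar Q d b = 0 ∧ polar Q d x ≠ 0 ∧
        polar Q d c ≠ 0 := by
      by_cases h1 : polar Q d₁ c = 0
      · by_cases h2 : polar Q d₂ x = 0
        · refine ⟨d₁ + d₂, rat_add hd₁ hd₂, ?_, ?_, ?_⟩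
          · rw [polar_add_left, show polar Q d₁ b = 0 from hd₁b 0,
              show polar Q d₂ b = 0 from hd₂b 0, add_zero]
          · rw [polar_add_left, hd₁x, h2, add_zero]; exact one_ne_zero
          · rw [polar_add_left, hd₂c, h1, zero_add]; exact one_ne_zero
        · exact ⟨d₂, hd₂, hd₂b 0, h2, by rw [hd₂c]; exact one_ne_zero⟩
      · exact ⟨d₁, hd₁, hd₁b 0, by rw [hd₁x]; exact one_ne_zero, h1⟩
    set t := -Q d / polar Q d x
    have ht : t ∈ F₀ := div_mem (neg_mem (hR.val d hd)) (polar_rat hR hd hx)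
    have hs : Rat F₀ P (d + t • x) := rat_add hd (rat_smul ht hx)
    have hsQ : Q (d + t • x) = 0 := by
      rw [form_add, form_smul, hxQ, polar_smul_right, smul_eq_mul]
      simp [t, div_mul_cancel₀ _ hdx]
    have hsb : polar Q b (d + t • x) = 0 := by
      rw [polar_add_right, polar_smul_right, hbx, polar_comm, hdb, smul_zero, add_zero]
    have hsx : polar Q (d + t • x) x ≠ 0 := by
      rw [polar_add_left, polar_smul_left, polar_self_eq, hxQ]; simpa using hdx
    refine near _ hs (near x hx h _ hs hsQ hsb hsx) c hc hcQ hbc ?_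
    rw [polar_add_right, polar_smul_right, hcx, smul_zero, add_zero, polar_comm]
    exact hdc
  by_cases hzQ : Q z = 0
  · exact sing z hz hzQ hbz
  have hzn : z ∉ Submodule.span F {b} := fun hm => hzQ (by
    obtain ⟨γ, rfl⟩ := Submodule.mem_span_singleton.mp hm
    rw [form_smul, hbQ, mul_zero])
  obtain ⟨r, hr, hrQ, hrb, hrz⟩ := exists_singular_sep hR ![b]
    (by intro i; fin_cases i; simpa) hz (notMem_single hzn) (by norm_num)
  have hbr : polar Q b r = 0 := by rw [polar_comm]; exact hrb 0
  set t := -Q z / polar Q r z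
  have ht : t ∈ F₀ := div_mem (neg_mem (hR.val z hz)) (polar_rat hR hr hz)
  have h1 := sing (z + t • r) (rat_add hz (rat_smul ht hr)) (by
    rw [form_add, form_smul, hrQ, polar_smul_right, polar_comm Q z r, smul_eq_mul]
    simp [t, div_mul_cancel₀ _ hrz]) (by rw [polar_add_right, polar_smul_right, hbz, hbr]; simp)
  have h2 := sing (t • r) (rat_smul ht hr) (by rw [form_smul, hrQ, mul_zero])
    (by rw [polar_smul_right, hbr, smul_zero])
  have h3 := inA_sub hbQ h1 h2
  rwa [smul_add, add_sub_cancel_right] at h3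

/-- All rational root elements scaled by `a` lie in `M`. -/
def Spread (Q : QuadraticForm F (ι → F)) (F₀ : Subfield F) (P : GL ι F) (M : Subgroup (orth Q))
    (a : F) : Prop :=
  ∀ b z, Rat F₀ P b → Rat F₀ P z → Q b = 0 → polar Q b z = 0 → InA M b (a • z)

theorem spread_of_one {b x : ι → F} {a : F} (hb : Rat F₀ P b) (hbQ : Q b = 0) (hb0 : b ≠ 0)
    (hx : Rat F₀ P x) (hxQ : Q x = 0) (hbx : polar Q b x = 0) (hxn : x ∉ Submodule.span F {b})
    (h : InA M b (a • x)) : Spread Q F₀ P M a := by
  intro b' z hb' hz hb'Q hb'z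
  by_cases hb'0 : b' = 0
  · subst hb'0
    refine ⟨by simp, ?_⟩
    have e : eich Q (0 : ι → F) (a • z) = 1 := orth_ext fun v => by
      rw [eich_apply (QuadraticMap.map_zero Q) (polar_zero_left Q _)]; simp
    rw [e]; exact one_mem M
  have hn := hR.dim
  have hswap : ∀ {b r : ι → F}, b ≠ 0 → r ∉ Submodule.span F {b} → b ∉ Submodule.span F {r} := by
    intro b r hb0 hr hm
    obtain ⟨μ, rfl⟩ := Submodule.mem_span_singleton.mp hm
    have hμ : μ ≠ 0 := fun e => hb0 (by rw [e, zero_smul])
    refine hr (Submodule.mem_span_singleton.mpr ⟨μ⁻¹, ?_⟩)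
    rw [smul_smul, inv_mul_cancel₀ hμ, one_smul]
  obtain ⟨r, hr, hrQ, hrp, hrn⟩ := exists_singular_out hR ![b, b']
    (by intro i; fin_cases i <;> simpa) (by omega)
  have hrb : r ∉ Submodule.span F {b} := fun hm => hrn (Submodule.span_mono (by simp) hm)
  have hrb' : r ∉ Submodule.span F {b'} := fun hm => hrn (Submodule.span_mono (by simp) hm)
  have hbr : polar Q b r = 0 := by rw [polar_comm]; exact hrp 0
  have h1 := inA_spread hR hM hb hbQ hx hxQ hbx hxn h hr hbr
  have h2 := inA_swap hbQ hrQ hbr h1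
  have h3 := inA_spread hR hM hr hrQ hb hbQ (hrp 0) (hswap hb0 hrb) h2 hb' (hrp 1)
  exact inA_spread hR hM hb' hb'Q hr hrQ (by rw [polar_comm]; exact hrp 1) hrb'
    (inA_swap hrQ hb'Q (hrp 1) h3) hz hb'z

theorem spread_mul {a d : F} (ha : Spread Q F₀ P M a) (hd : Spread Q F₀ P M d) :
    Spread Q F₀ P M (a * d) := by
  have hn := hR.dim
  obtain ⟨b, hb, hb0, hbQ, -⟩ := exists_singular hR ![] (fun i => i.elim0) (by omega)
  obtain ⟨c, hc, hcQ, hcb, hcn⟩ := exists_singular_out hR ![b]
    (by intro i; fin_cases i; simpa) (by omega)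
  have hcn' : c ∉ Submodule.span F {b} := by simpa using hcn
  obtain ⟨x, hx, hxb, hxc⟩ := exists_dual hR ![b] (by intro i; fin_cases i; simpa) hc hcn
  have hbc : polar Q b c = 0 := by rw [polar_comm]; exact hcb 0
  obtain ⟨y, y', hy, hy', h1, h2, h3, h4, h5⟩ := exists_pair hR hb hc
  refine spread_of_one hR hM hb hbQ hb0 hc hcQ hbc hcn' ?_
  have := inA_second (y := d • y) hbQ hcQ hbc (by rw [polar_smul_right, h1, smul_zero]) h3
    (hd c y hc hy hcQ h2) (inA_rat hR hM hc hy' hcQ h4)
    (ha b x hb hx hbQ (by rw [polar_comm]; exact hxb 0))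
  rwa [polar_smul_left, h5, polar_smul_right, polar_comm Q c x, hxc, smul_eq_mul, smul_eq_mul,
    mul_one, mul_one, mul_comm] at this

/-- One irrational coefficient gives all of `Ω`. -/
theorem eichGroup_le_of_spread {r : ℕ} (hr : r.Prime) (hcard : Nat.card F = Nat.card F₀ ^ r)
    {a : F} (ha : a ∉ F₀) (hs : Spread Q F₀ P M a) : eichGroup Q ≤ M := by
  classical
  haveI := Fintype.ofFinite F
  have h0 : ∀ s ∈ F₀, Spread Q F₀ P M s := fun s hs b z hb hz hbQ hbz =>
    inA_rat hR hM hb (rat_smul hs hz) hbQ (by rw [polar_smul_right, hbz, smul_zero])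
  let R : Subring F :=
    { carrier := {x | Spread Q F₀ P M x}
      one_mem' := h0 1 (one_mem F₀)
      mul_mem' := fun {x y} hx hy => spread_mul hR hM hx hy
      zero_mem' := h0 0 (zero_mem F₀)
      add_mem' := fun {x y} hx hy b z hb hz hbQ hbz => by
        rw [add_smul]; exact inA_add hbQ (hx b z hb hz hbQ hbz) (hy b z hb hz hbQ hbz)
      neg_mem' := fun {x} hx b z hb hz hbQ hbz => by
        rw [neg_smul]; exact inA_neg hbQ (hx b z hb hz hbQ hbz) }
  let K : Subfield F :=
    { R with
      inv_mem' := fun x hx => by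
        rcases eq_or_ne x 0 with rfl | h0
        · simpa using R.zero_mem
        · have h : x ^ (Fintype.card F - 2) = x⁻¹ := by
            have hq := Fintype.one_lt_card (α := F)
            apply eq_inv_of_mul_eq_one_left
            rw [← pow_succ, show Fintype.card F - 2 + 1 = Fintype.card F - 1 by omega,
              FiniteField.pow_card_sub_one_eq_one x h0]
          rw [← h]
          exact R.pow_mem hx _ }
  have hall : ∀ x, Spread Q F₀ P M x := by
    rcases subfield_cases hr hcard (K := K) h0 with h | h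
    · exact absurd (h a hs) ha
    · exact h
  have full : ∀ b, Rat F₀ P b → Q b = 0 → b ≠ 0 → OrthStab.Full M b := by
    intro b hb hbQ hb0 z hbz
    obtain ⟨d, hd, hdb⟩ := exists_dual_one hR hb hb0
    have hbd : polar Q b d = 1 := by rw [polar_comm]; exact hdb
    have hz : z = ∑ j, coord P z j • (col P j - polar Q b (col P j) • d) := by
      have h1 : ∑ j, coord P z j * polar Q b (col P j) = 0 := by
        rw [← hbz]
        conv_rhs => rw [eq_sum_col (P := P) z]
        show _ = polarBilin Q b _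
        simp [map_sum]
      simp only [smul_sub, smul_smul, Finset.sum_sub_distrib, ← Finset.sum_smul, h1, zero_smul,
        sub_zero]
      exact eq_sum_col z
    suffices InA M b z from this.2
    rw [hz]
    refine Finset.sum_induction _ (InA M b) (fun x y => inA_add hbQ) (inA_zero b) fun j _ => ?_
    refine hall _ b _ hb (rat_sub (rat_col j) (rat_smul (polar_rat hR hb (rat_col j)) hd)) hbQ ?_
    rw [polar_sub_right, polar_smul_right, hbd, smul_eq_mul, mul_one, sub_self]
  have hn := hR.dim
  obtain ⟨e, he, he0, heQ, -⟩ := exists_singular hR ![] (fun i => i.elim0) (by omega)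
  obtain ⟨d, hd, hde⟩ := exists_dual_one hR he he0
  have hf : Rat F₀ P (d + (-Q d) • e) := rat_add hd (rat_smul (neg_mem (hR.val d hd)) he)
  have hfQ : Q (d + (-Q d) • e) = 0 := by
    rw [form_add, form_smul, heQ, polar_smul_right, hde]; simp
  have hef : polar Q e (d + (-Q d) • e) ≠ 0 := by
    rw [polar_add_right, polar_smul_right, polar_self_eq, heQ, polar_comm, hde]; simp
  exact OrthStab.eichGroup_le_of_hypPair hR.nd (by rw [Module.finrank_pi]; omega) heQ hfQ hef
    (full e he heQ he0) (full _ hf hfQ fun h => hef (by rw [h, polar_zero_right]))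

end Cfsg.Agent.Omega8Minus50.Sub
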